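import Cfsg.Agent.Char.Clifford
import Cfsg.Agent.Char.ExtendInv
import Cfsg.Agent.Char.NormalSub
import Cfsg.Prelude.Def_CharExt
import Cfsg.Prelude.Def_DegreeGraph

/-!
# Determinants of characters over a normal subgroup contained in the derived group
-/

set_option autoImplicit false
set_option linter.style.haveILetI false

namespace CfsgLib.RelDeg

open CfsgLib.Char Module

universe u

section Det

variable {H : Type u} [Group H] [Finite H]

theorem detChar_add {χ ψ : H → ℂ} (hχ : Cfsg.IsCharacter H χ) (hψ : Cfsg.IsCharacter H ψ) :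
    Cfsg.detChar (χ + ψ) = Cfsg.detChar χ * Cfsg.detChar ψ := by
  obtain ⟨n, ρ, rfl⟩ := hχ
  obtain ⟨m, σ, rfl⟩ := hψ
  funext g
  let e := (Module.finBasis ℂ ((Fin n → ℂ) × (Fin m → ℂ))).equivFun
  rw [← character_prod, ← character_conjRep (ρ.prod σ) e, detChar_eq, conjRep_apply, Pi.mul_apply,
    detChar_eq, detChar_eq]
  simp only [LinearEquiv.conj_apply, LinearMap.comp_assoc, LinearMap.det_conj]
  exact LinearMap.det_prodMap _ _

theorem detChar_zero : Cfsg.detChar (0 : H → ℂ) = 1 := by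
  obtain ⟨n, ρ, hρ⟩ := (isCharacter_zero : Cfsg.IsCharacter H (0 : H → ℂ))
  have hn : n = 0 := by
    have h := ρ.char_one
    rw [hρ, Pi.zero_apply, Module.finrank_fin_fun] at h
    exact_mod_cast h.symm
  subst hn
  funext g
  rw [← hρ, detChar_eq, Pi.one_apply, Subsingleton.elim (ρ g) LinearMap.id, LinearMap.det_id]

theorem detChar_natCast_smul {χ : H → ℂ} (hχ : Cfsg.IsCharacter H χ) (k : ℕ) :
    Cfsg.detChar ((k : ℂ) • χ) = Cfsg.detChar χ ^ k := by
  induction k with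
  | zero => simp [detChar_zero]
  | succ k ih =>
    rw [Nat.cast_succ, add_smul, one_smul,
      detChar_add (IsCharacter.natCast_smul hχ k) hχ, ih, pow_succ]

theorem detChar_sum {ι : Type*} (s : Finset ι) {f : ι → H → ℂ}
    (hf : ∀ i ∈ s, Cfsg.IsCharacter H (f i)) :
    Cfsg.detChar (∑ i ∈ s, f i) = ∏ i ∈ s, Cfsg.detChar (f i) := by
  classical
  induction s using Finset.induction_on with
  | empty => simp [detChar_zero]
  | insert a t ha ih =>
    rw [Finset.sum_insert ha, Finset.prod_insert ha, detChar_add (hf a (Finset.mem_insert_self a t))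
      (isCharacter_sum t fun i hi => hf i (Finset.mem_insert_of_mem hi)),
      ih fun i hi => hf i (Finset.mem_insert_of_mem hi)]

theorem detChar_comp_hom {K : Type u} [Group K] [Finite K] (f : K →* H) {χ : H → ℂ}
    (hχ : Cfsg.IsCharacter H χ) :
    Cfsg.detChar (fun x => χ (f x)) = fun x => Cfsg.detChar χ (f x) := by
  obtain ⟨n, ρ, rfl⟩ := hχ
  funext x
  rw [show (fun x => ρ.character (f x)) =
    Representation.character (ρ.comp f : Representation ℂ K (Fin n → ℂ)) from rfl,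
    detChar_eq, detChar_eq]
  rfl

theorem det_eq_trace_of_finrank_one (A : (Fin 1 → ℂ) →ₗ[ℂ] (Fin 1 → ℂ)) :
    LinearMap.det A = LinearMap.trace ℂ (Fin 1 → ℂ) A := by
  rw [← LinearMap.det_toMatrix (Pi.basisFun ℂ (Fin 1)),
    LinearMap.trace_eq_matrix_trace ℂ (Pi.basisFun ℂ (Fin 1)), Matrix.det_fin_one,
    Matrix.trace_fin_one]

theorem detChar_of_degree_one {χ : H → ℂ} (hχ : Cfsg.IsCharacter H χ) (h1 : χ 1 = 1) :
    Cfsg.detChar χ = χ := by
  obtain ⟨n, ρ, rfl⟩ := hχ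
  have hn : n = 1 := by
    have h := ρ.char_one
    rw [h1, Module.finrank_fin_fun] at h
    exact_mod_cast h.symm
  subst hn
  funext g
  rw [detChar_eq]
  exact det_eq_trace_of_finrank_one _

end Det

section Over

variable {G : Type u} [Group G] [Finite G] {N : Subgroup G} [hN : N.Normal]

/-- `χ` is an irreducible character of degree `d` lying over `θ`. -/
def Over (N : Subgroup G) (θ : N → ℂ) (d : ℕ) : Prop :=
  ∃ χ : G → ℂ, Cfsg.IsIrrCharacter G χ ∧ χ 1 = d ∧
    ∀ [Fintype N], Cfsg.classInner (fun n : N => χ n) θ ≠ 0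

omit [Finite G] hN in
theorem over_mk [Fintype N] {θ : N → ℂ} {d : ℕ} {χ : G → ℂ} (hχ : Cfsg.IsIrrCharacter G χ)
    (hd : χ 1 = d) (h : Cfsg.classInner (fun n : N => χ n) θ ≠ 0) : Over N θ d :=
  ⟨χ, hχ, hd, fun {inst} => by convert h⟩

theorem exists_over {θ : N → ℂ} (hθ : Cfsg.IsIrrCharacter N θ) : ∃ d, Over N θ d := by
  haveI := Fintype.ofFinite G
  haveI := Fintype.ofFinite N
  have hne : Cfsg.indFun N θ ≠ 0 := fun h0 => by
    have h1 := indFun_one (H := N) θ
    rw [h0, Pi.zero_apply, eq_comm, mul_eq_zero] at h1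
    rcases h1 with h1 | h1
    · exact Subgroup.index_ne_zero_of_finite (Nat.cast_eq_zero.1 h1)
    · exact IsIrrCharacter.apply_one_ne_zero hθ h1
  obtain ⟨χ, hχ, hc⟩ := IsCharacter.exists_constituent
    (IsCharacter.indFun (IsIrrCharacter.isCharacter hθ)) hne
  obtain ⟨d, -, hd⟩ := IsIrrCharacter.exists_degree hχ
  exact ⟨d, over_mk hχ hd
    ((classInner_indFun_ne_zero_iff (IsIrrCharacter.isClassFunction hχ) θ).1 hc)⟩

theorem detChar_conjOn {θ : N → ℂ} (hθ : Cfsg.IsCharacter N θ) (g : G) :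
    Cfsg.detChar (conjOn g θ) = conjOn g (Cfsg.detChar θ) := by
  rw [conjOn_eq_comp g θ, conjOn_eq_comp g (Cfsg.detChar θ)]
  exact detChar_comp_hom (MulAut.conjNormal g).toMonoidHom hθ

omit [Finite G] in
theorem conjOn_mul (g : G) (φ ψ : N → ℂ) : conjOn g (φ * ψ) = conjOn g φ * conjOn g ψ := rfl

omit [Finite G] in
theorem conjOn_pow (g : G) (φ : N → ℂ) (k : ℕ) : conjOn g (φ ^ k) = conjOn g φ ^ k := rfl

omit [Finite G] in
theorem conjOn_fun_one (g : G) : conjOn g (1 : N → ℂ) = 1 := rfl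

theorem Over.index_dvd {θ : N → ℂ} {d : ℕ} (h : Over N θ d) (hθ : Cfsg.IsIrrCharacter N θ) :
    (inertia θ).index ∣ d := by
  haveI := Fintype.ofFinite G
  haveI := Fintype.ofFinite N
  obtain ⟨χ, hχ, hd, hc⟩ := h
  obtain ⟨e, he⟩ := IsCharacter.exists_classInner_eq_natCast
    (IsCharacter.restrict (IsIrrCharacter.isCharacter hχ) N) hθ
  obtain ⟨f, -, hf⟩ := IsIrrCharacter.exists_degree hθ
  have h1 := degree_eq_mul hχ hθ hc
  rw [hd, he, hf] at h1
  exact ⟨e * f, by
    have h2 : d = e * (inertia θ).index * f := by exact_mod_cast h1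
    rw [h2]; ring⟩

theorem Over.degree_dvd {θ : N → ℂ} {d f : ℕ} (h : Over N θ d) (hθ : Cfsg.IsIrrCharacter N θ)
    (hf : θ 1 = f) : f ∣ d := by
  haveI := Fintype.ofFinite G
  haveI := Fintype.ofFinite N
  obtain ⟨χ, hχ, hd, hc⟩ := h
  obtain ⟨e, he⟩ := IsCharacter.exists_classInner_eq_natCast
    (IsCharacter.restrict (IsIrrCharacter.isCharacter hχ) N) hθ
  have h1 := degree_eq_mul hχ hθ hc
  rw [hd, he, hf] at h1
  exact ⟨e * (inertia θ).index, by
    have h2 : d = e * (inertia θ).index * f := by exact_mod_cast h1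
    rw [h2]; ring⟩

omit hN in
theorem Over.mem_relCharDegrees {θ : N → ℂ} {d : ℕ} (h : Over N θ d)
    (hθ : Cfsg.IsIrrCharacter N θ) (hne : θ ≠ 1) : d ∈ Cfsg.relCharDegrees N := by
  haveI := Fintype.ofFinite G
  haveI := Fintype.ofFinite N
  obtain ⟨χ, hχ, hd, hc⟩ := h
  refine ⟨⟨χ, hχ⟩, ?_, by rw [Cfsg.charDegree, show ((⟨χ, hχ⟩ : Cfsg.IrrCharacter G) : G → ℂ) 1 =
    χ 1 from rfl, hd, Complex.natCast_re, Nat.floor_natCast]⟩
  by_contra hall
  push Not at hall
  apply hc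
  have h1 : (fun n : N => χ n) = (d : ℂ) • (fun _ : N => (1 : ℂ)) := funext fun n => by
    simpa [hd] using hall n n.2
  rw [h1, classInner_smul_left, IsIrrCharacter.classInner_of_ne isIrrCharacter_one hθ
    (fun he => hne he.symm), mul_zero]

theorem relCharDegrees_iff {a : ℕ} :
    a ∈ Cfsg.relCharDegrees N ↔
      ∃ θ : N → ℂ, Cfsg.IsIrrCharacter N θ ∧ θ ≠ 1 ∧ Over N θ a := by
  refine ⟨?_, fun ⟨θ, hθ, hne, hov⟩ => hov.mem_relCharDegrees hθ hne⟩
  rintro ⟨⟨χ, hχ⟩, ⟨x, hx, hxne⟩, rfl⟩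
  haveI := Fintype.ofFinite G
  haveI := Fintype.ofFinite N
  obtain ⟨d, -, hd⟩ := IsIrrCharacter.exists_degree hχ
  have hdeg : Cfsg.charDegree χ = d := by
    rw [Cfsg.charDegree, hd, Complex.natCast_re, Nat.floor_natCast]
  obtain ⟨θ, hθ, hc⟩ := exists_constituent_restrict (N := N) hχ
  refine ⟨θ, hθ, fun h1 => hxne ?_, hdeg ▸ over_mk hχ hd hc⟩
  have hr := restrict_eq_smul_sum hχ hθ hc
  have horb : ∀ ψ ∈ conjOrbit θ, ψ = 1 := fun ψ hψ => by
    obtain ⟨g, rfl⟩ := mem_conjOrbit.1 hψ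
    rw [h1]; rfl
  have hx' := congrFun hr ⟨x, hx⟩
  have h1' := congrFun hr 1
  rw [Finset.sum_congr rfl horb] at hx' h1'
  simp only [Pi.smul_apply, Finset.sum_apply, Pi.one_apply, OneMemClass.coe_one] at hx' h1'
  exact hx'.trans h1'.symm

/-- The determinant of the restriction is trivial, as `N` lies in the derived group. -/
theorem orderOf_dvd_of_invariant (hNG : N ≤ commutator G) {θ : N → ℂ} {d : ℕ}
    (h : Over N θ d) (hθ : Cfsg.IsIrrCharacter N θ) (k : ℕ)
    (hinv : ∀ g : G, conjOn g (Cfsg.detChar θ ^ k) = Cfsg.detChar θ ^ k) :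
    (Cfsg.detChar θ ^ k) ^ d = 1 := by
  haveI := Fintype.ofFinite G
  haveI := Fintype.ofFinite N
  obtain ⟨χ, hχ, hd, hc⟩ := h
  have hθc := IsIrrCharacter.isCharacter hθ
  obtain ⟨e, he⟩ := IsCharacter.exists_classInner_eq_natCast
    (IsCharacter.restrict (IsIrrCharacter.isCharacter hχ) N) hθ
  obtain ⟨f, -, hf⟩ := IsIrrCharacter.exists_degree hθ
  have h1 := degree_eq_mul hχ hθ hc
  rw [hd, he, hf] at h1
  have h2 : d = e * (inertia θ).index * f := by exact_mod_cast h1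
  obtain ⟨D, hD, -⟩ := exists_detHom (IsIrrCharacter.isCharacter hχ) hd
  have hres : Cfsg.detChar (fun n : N => χ n) = 1 := funext fun n => by
    rw [← detChar_comp (IsIrrCharacter.isCharacter hχ) (fun _ => rfl) n, hD, Pi.one_apply,
      Abelianization.commutator_subset_ker D (hNG n.2), Units.val_one]
  have hcl := restrict_eq_smul_sum hχ hθ hc
  rw [he] at hcl
  have horbc : ∀ ψ ∈ conjOrbit θ, Cfsg.IsCharacter N ψ := fun ψ hψ => by
    obtain ⟨g, rfl⟩ := mem_conjOrbit.1 hψ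
    exact IsIrrCharacter.isCharacter (isIrrCharacter_conjOn hθ g)
  rw [hcl, detChar_natCast_smul (isCharacter_sum _ horbc), detChar_sum _ horbc] at hres
  have hconst : ∀ ψ ∈ conjOrbit θ, Cfsg.detChar ψ ^ k = Cfsg.detChar θ ^ k := fun ψ hψ => by
    obtain ⟨g, rfl⟩ := mem_conjOrbit.1 hψ
    rw [detChar_conjOn hθc, ← conjOn_pow, hinv]
  have h3 : (Cfsg.detChar θ ^ k) ^ (e * (inertia θ).index) = 1 := by
    have h4 := congrArg (· ^ k) hres
    simp only [one_pow] at h4
    rw [← pow_mul, mul_comm e k, pow_mul, ← Finset.prod_pow, Finset.prod_congr rfl hconst,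
      Finset.prod_const, card_conjOrbit] at h4
    rwa [← pow_mul, mul_comm (inertia θ).index e] at h4
  rw [h2, pow_mul, h3, one_pow]

end Over

end CfsgLib.RelDeg
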