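import Cfsg.Agent.RelDegGraph.Main
import Cfsg.Agent.Char.DegreeRatio
import Cfsg.Agent.Char.Constituents
import Mathlib.GroupTheory.Solvable

/-!
# Diameters of the components of the relative degree graph
-/

set_option autoImplicit false
set_option linter.style.haveILetI false

namespace CfsgLib.RelDeg

open CfsgLib.Char

universe u

variable {G : Type u} [Group G] [Finite G]

theorem relCharDegrees_mono {L N : Subgroup G} (h : L ≤ N) :
    Cfsg.relCharDegrees L ⊆ Cfsg.relCharDegrees N := fun _ ⟨χ, ⟨x, hx, hne⟩, hd⟩ =>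
  ⟨χ, ⟨x, h hx, hne⟩, hd⟩

theorem Conn.mono {L N : Subgroup G} (h : L ≤ N) {a b : ℕ} (hc : Conn L a b) : Conn N a b := by
  obtain ⟨ha, hb, hr⟩ := hc
  refine ⟨relCharDegrees_mono h ha, relCharDegrees_mono h hb, ?_⟩
  let F : Cfsg.commonDivisorGraph.induce (Cfsg.relCharDegrees L) →g
      Cfsg.commonDivisorGraph.induce (Cfsg.relCharDegrees N) :=
    { toFun := fun x => ⟨x.1, relCharDegrees_mono h x.2⟩
      map_rel' := fun hadj => hadj }
  exact hr.map F

theorem Near.mono {L N : Subgroup G} (h : L ≤ N) {a b : ℕ} (hn : Near L a b) : Near N a b := by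
  obtain ⟨d, hd, hrest⟩ := hn
  exact ⟨d, relCharDegrees_mono h hd, hrest⟩

/-- A constituent of the restriction of a character is trivial where the character is. -/
theorem constituent_apply_eq {H : Type u} [Group H] [Finite H] [Fintype H] {χ θ : H → ℂ}
    (hχ : Cfsg.IsCharacter H χ) (hθ : Cfsg.IsIrrCharacter H θ)
    (hc : Cfsg.classInner χ θ ≠ 0) {x : H} (hx : χ x = χ 1) : θ x = θ 1 := by
  have hsub : Cfsg.IsCharacter H (χ - θ) := IsCharacter.sub_irr hχ hθ hc
  have hθc := IsIrrCharacter.isCharacter hθ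
  obtain ⟨n, hn⟩ := IsCharacter.exists_degree hθc
  obtain ⟨m, hm⟩ := IsCharacter.exists_degree hsub
  have h1 := IsCharacter.norm_apply_le hsub x
  have h2 := IsCharacter.norm_apply_le hθc x
  rw [hn, Complex.natCast_re] at h2
  rw [hm, Complex.natCast_re] at h1
  have h3 : θ x + (χ - θ) x = (n : ℂ) + (m : ℂ) := by
    rw [← hm, ← hn, Pi.sub_apply, Pi.sub_apply, hx]; ring
  have h4 := congrArg Complex.re h3
  simp only [Complex.add_re, Complex.natCast_re] at h4
  have h5 := (Complex.re_le_norm ((χ - θ) x)).trans h1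
  have h6 := (Complex.re_le_norm (θ x)).trans h2
  have h7 : (θ x).re = n := by linarith
  have h8 : ‖θ x‖ ^ 2 ≤ (n : ℝ) ^ 2 := by gcongr
  have h9 : (θ x).im = 0 := by
    rw [Complex.sq_norm, Complex.normSq_apply, h7] at h8
    nlinarith [mul_self_nonneg (θ x).im]
  rw [hn]
  exact Complex.ext (by simpa using h7) (by simpa using h9)

section Level

variable {L : Subgroup G} [hL : L.Normal]

omit hL in
theorem hom_card_eq : Nat.card (L →* ℂˣ) = ⁅L, L⁆.relIndex L := by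
  rw [card_hom_eq_index_commutator, Subgroup.relIndex]
  congr 1
  exact Subgroup.map_injective L.subtype_injective (by
    rw [Subgroup.map_subtype_commutator, Subgroup.subgroupOf_map_subtype,
      inf_eq_left.2 (Subgroup.commutator_le_self L)])

omit hL in
theorem exists_prime_of_linear {ν : L →* ℂˣ} (hν : cf ν ≠ 1) :
    ∃ r : ℕ, r.Prime ∧ r ∣ ⁅L, L⁆.relIndex L ∧ r ∣ orderOf ν := by
  have h1 : orderOf ν ≠ 1 := fun h => hν (by
    rw [orderOf_eq_one_iff.1 h]; funext n; simp [cf])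
  haveI : Finite (L →* ℂˣ) := Nat.finite_of_card_ne_zero (by
    rw [hom_card_eq]; exact Subgroup.index_ne_zero_of_finite)
  exact ⟨_, Nat.minFac_prime h1, (Nat.minFac_dvd _).trans (hom_card_eq (L := L) ▸
    orderOf_dvd_natCard ν), Nat.minFac_dvd _⟩

/-- The parts of a linear character at a prime dividing its order. -/
theorem decompose_linear {r : ℕ} (hr : r.Prime) {ν : L →* ℂˣ} (hdvd : r ∣ orderOf ν) :
    ∃ (θ₀ : L → ℂ) (μ : L →* ℂˣ) (m : ℕ), ¬ r ∣ m ∧ Cfsg.IsIrrCharacter L θ₀ ∧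
      cf ν = θ₀ * cf μ ∧ θ₀ 1 = (1 : ℕ) ∧ Cfsg.detChar θ₀ ^ m = 1 ∧ IsRLin r μ := by
  obtain ⟨θ₀, μ, m, hrm, hirr, heq, hone, hdet, hμ⟩ :=
    decompose hr (cf_irr ν) (f := 1) (by rw [cf_apply_one, Nat.cast_one]) hr.not_dvd_one
  refine ⟨θ₀, μ, m, hrm, hirr, heq, hone, hdet, fun h1 => hrm (hdvd.trans ?_), hμ⟩
  rw [h1, mul_one] at heq
  rw [← heq, detChar_cf, ← cf_pow] at hdet
  exact orderOf_dvd_of_pow_eq_one (MonoidHom.ext fun n => Units.ext (congrFun hdet n))

/-- A degree coprime to `r` over a twist of an `r`-power linear character: the orbit is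
nontrivial. -/
theorem one_lt_index {hL' : L ≤ commutator G} {r : ℕ} (hr : r.Prime) {μ : L →* ℂˣ}
    (hμ : IsRLin r μ) {θ₀ : L → ℂ} (hirr : Cfsg.IsIrrCharacter L θ₀) (hone : θ₀ 1 = (1 : ℕ))
    {m : ℕ} (hrm : ¬ r ∣ m) (hdet : Cfsg.detChar θ₀ ^ m = 1) {b : ℕ}
    (hov : Over L (θ₀ * cf μ) b) (hrb : ¬ r ∣ b) :
    1 < (inertia (cf μ)).index ∧ (inertia (cf μ)).index ∣ b := by
  constructor
  · refine Subgroup.one_lt_index_of_ne_top fun htop => ?_
    have hD : Cfsg.detChar (θ₀ * cf μ) ^ m = cf μ ^ m := by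
      rw [detChar_mul_cf (IsIrrCharacter.isCharacter hirr) hone, pow_one, mul_pow, hdet, mul_one]
    have h1 := orderOf_dvd_of_invariant hL' hov (irr_mul_cf hirr μ) m (fun g => by
      rw [hD, conjOn_pow, show conjOn g (cf μ) = cf μ from
        (mem_inertia _ g).1 (htop ▸ Subgroup.mem_top g)])
    rw [hD, ← pow_mul] at h1
    exact hμ.1 (pow_injective_of_coprime (coprime_rOrd hr fun h => (hr.dvd_mul.1 h).elim hrm hrb)
      hμ.2 (one_pow _) (h1.trans (one_pow _).symm))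
  · exact (Subgroup.index_dvd_of_le fun g hg =>
      (mem_inertia_mul hr hirr hone hr.not_dvd_one hrm hdet hμ.2 hg).2).trans
      (hov.index_dvd (irr_mul_cf hirr μ))

/-- A degree prime to the index of the derived group is near every degree over a linear
character. -/
theorem near_of_linear (hL' : L ≤ commutator G) {b c : ℕ} (hb : b ∈ Cfsg.relCharDegrees L)
    {ν : L →* ℂˣ} (hν : cf ν ≠ 1) (hc : Over L (cf ν) c)
    (hcopb : ∀ r : ℕ, r.Prime → r ∣ ⁅L, L⁆.relIndex L → ¬ r ∣ b)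
    (hcopc : ∀ r : ℕ, r.Prime → r ∣ ⁅L, L⁆.relIndex L → ¬ r ∣ c) : Near L b c := by
  obtain ⟨θ, hθ, hθ1, hov⟩ := relCharDegrees_iff.1 hb
  obtain ⟨f, hf0, hf⟩ := IsIrrCharacter.exists_degree hθ
  have hfb := hov.degree_dvd hθ hf
  obtain ⟨r, hr, hrM, hrν⟩ := exists_prime_of_linear hν
  have hrb := hcopb r hr hrM
  obtain ⟨θc, μ, mc, hrmc, hθcirr, hνeq, hθc1, hθcm, hμ⟩ := decompose_linear hr hrν
  rw [hνeq] at hc
  by_cases hf1 : 1 < f
  · have hrf : ¬ r ∣ f := fun h => hrb (h.trans hfb)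
    obtain ⟨θ₀, -, m, hrm, hθ₀irr, -, hθ₀f, hθ₀m, -⟩ := decompose hr hθ hf hrf
    obtain ⟨k, hk, hkey⟩ := key_factor hL' hr hμ
    obtain ⟨d, hd⟩ := exists_over (irr_mul_cf hθ₀irr μ)
    have hdeg : (θ₀ * cf μ) 1 = f := by rw [Pi.mul_apply, hθ₀f, cf_apply_one, mul_one]
    have hne : θ₀ * cf μ ≠ 1 := fun h => by
      rw [h, Pi.one_apply] at hdeg
      have : 1 = f := by exact_mod_cast hdeg
      omega
    exact near_of_two (hd.mem_relCharDegrees (irr_mul_cf hθ₀irr μ) hne) hd.pos hc.pos hf1 hfb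
      (hd.degree_dvd (irr_mul_cf hθ₀irr μ) hdeg) hk
      (hkey θc 1 mc c hθcirr hθc1 hr.not_dvd_one hrmc hθcm hc)
      (hkey θ₀ f m d hθ₀irr hθ₀f hrf hrm hθ₀m hd)
  · have hf' : f = 1 := by omega
    obtain ⟨ν', hν'⟩ := IsCharacter.exists_hom (IsIrrCharacter.isCharacter hθ)
      (by rw [hf, hf', Nat.cast_one])
    have hθν : θ = cf ν' := hν'
    obtain ⟨q, hq, hqM, hqν⟩ := exists_prime_of_linear (ν := ν') (hθν ▸ hθ1)
    obtain ⟨θb, μb, mb, hqmb, hθbirr, hν'eq, hθb1, hθbm, hμb⟩ := decompose_linear hq hqν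
    rw [hθν, hν'eq] at hov
    by_cases hqr : q = r
    · subst hqr
      obtain ⟨hsμ, hsb⟩ := one_lt_index (hL' := hL') hq hμb hθbirr hθb1 hqmb hθbm hov hrb
      obtain ⟨htμ, htc⟩ := one_lt_index (hL' := hL') hr hμ hθcirr hθc1 hrmc hθcm hc
        (hcopc q hr hrM)
      exact near_good hq hμb.2 hμ.2 hb hov.pos hc.pos hsb htc hsμ htμ hrb (hcopc q hr hrM)
    · obtain ⟨k, l, -, -, hk, hl, hnear⟩ := near_linear hL' hq hr hqr hμb hμ
      exact hnear b c hc.pos (hk θb 1 mb b hθbirr hθb1 hq.not_dvd_one hqmb hθbm hov)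
        (hl θc 1 mc c hθcirr hθc1 hr.not_dvd_one hrmc hθcm hc)

/-- Restriction to the derived group is irreducible in coprime degree. -/
theorem restrict_commutator_irr {θ : L → ℂ} (hθ : Cfsg.IsIrrCharacter L θ) {f : ℕ}
    (hf : θ 1 = f) (hcop : f.Coprime (⁅L, L⁆.relIndex L)) :
    Cfsg.IsIrrCharacter (commutator L) (fun x : commutator L => θ x) := by
  haveI := Fintype.ofFinite L
  haveI := Fintype.ofFinite (commutator L)
  obtain ⟨ψ, hψ, hc⟩ := exists_constituent_restrict (N := commutator L) hθ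
  obtain ⟨k, hk, hdeg⟩ := exists_degree_ratio hθ hψ hc
  obtain ⟨d, -, hd⟩ := IsIrrCharacter.exists_degree hψ
  rw [hf, hd] at hdeg
  have hfk : f = k * d := by exact_mod_cast hdeg
  have hidx : (commutator L).index = ⁅L, L⁆.relIndex L := by
    rw [← card_hom_eq_index_commutator, hom_card_eq]
  have hk1 : k = 1 :=
    Nat.eq_one_of_dvd_coprimes hcop (hfk ▸ dvd_mul_right k d) (hidx ▸ hk)
  have h := IsCharacter.eq_of_constituent
    (IsCharacter.restrict (IsIrrCharacter.isCharacter hθ) (commutator L)) hψ hc (by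
      rw [hd, OneMemClass.coe_one, hf, hfk, hk1, one_mul])
  rw [h]; exact hψ

omit hL in
theorem not_trivial_of_restrict {θ : L → ℂ} {f : ℕ} (hf : θ 1 = f) (hf1 : 1 < f)
    (hres : Cfsg.IsIrrCharacter (commutator L) (fun x : commutator L => θ x)) :
    ∃ x : L, x ∈ commutator L ∧ θ x ≠ θ 1 := by
  by_contra! hall
  haveI := Fintype.ofFinite (commutator L)
  have h1 : (fun x : commutator L => θ x) = (f : ℂ) • fun _ : commutator L => (1 : ℂ) :=
    funext fun x => by rw [hall x x.2, hf, Pi.smul_apply, smul_eq_mul, mul_one]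
  have h2 := IsIrrCharacter.classInner_self hres
  rw [h1, classInner_smul_left, classInner_smul_right, Complex.conj_natCast,
    IsIrrCharacter.classInner_self isIrrCharacter_one, mul_one] at h2
  have h3 : f * f = 1 := by exact_mod_cast h2
  have h4 := Nat.eq_one_of_mul_eq_one_right h3
  omega

theorem mem_derived_degrees {θ : L → ℂ} (hθ : Cfsg.IsIrrCharacter L θ) {b : ℕ}
    (hov : Over L θ b) (h : ∃ x : L, x ∈ commutator L ∧ θ x ≠ θ 1) :
    b ∈ Cfsg.relCharDegrees ⁅L, L⁆ := by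
  haveI := Fintype.ofFinite L
  obtain ⟨χ, hχ, hd, hc⟩ := hov
  obtain ⟨x, hx, hne⟩ := h
  refine ⟨⟨χ, hχ⟩, ⟨x, ?_, fun heq => hne (constituent_apply_eq
    (IsCharacter.restrict (IsIrrCharacter.isCharacter hχ) L) hθ hc
    (heq.trans (by rw [OneMemClass.coe_one])))⟩, ?_⟩
  · rw [← Subgroup.map_subtype_commutator]
    exact Subgroup.mem_map_of_mem _ hx
  · rw [Cfsg.charDegree, show ((⟨χ, hχ⟩ : Cfsg.IrrCharacter G) : G → ℂ) 1 = χ 1 from rfl, hd,
      Complex.natCast_re, Nat.floor_natCast]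

/-- Gallagher: a nonlinear degree prime to the derived index is connected to every degree
vanishing from the derived group. -/
theorem conn_of_gallagher (hL' : L ≤ commutator G) {θ φ : L → ℂ}
    (hθ : Cfsg.IsIrrCharacter L θ) (hφ : Cfsg.IsIrrCharacter L φ)
    (hres : Cfsg.IsIrrCharacter (commutator L) (fun x : commutator L => θ x))
    (hφtriv : ∀ x ∈ commutator L, φ x = φ 1) {b β f g : ℕ} (hf : θ 1 = f) (hg : φ 1 = g)
    (hf1 : 1 < f) (hg1 : 1 < g) (hb : Over L θ b) (hβ : Over L φ β) : Conn L b β := by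
  haveI := Fintype.ofFinite L
  haveI := Fintype.ofFinite (commutator L)
  obtain ⟨hirr, -⟩ := (gallagher_one hθ hres).mapsTo ⟨hφ, hφtriv⟩
  obtain ⟨d, hd⟩ := exists_over hirr
  have hdeg : (φ * θ) 1 = ((g * f : ℕ) : ℂ) := by rw [Pi.mul_apply, hg, hf, Nat.cast_mul]
  have hne : φ * θ ≠ 1 := fun h => by
    rw [h, Pi.one_apply] at hdeg
    have h3 : g * f = 1 := by exact_mod_cast hdeg.symm
    have h4 := Nat.eq_one_of_mul_eq_one_right h3
    omega
  have hθne : θ ≠ 1 := fun h => by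
    rw [h, Pi.one_apply] at hf
    have : 1 = f := by exact_mod_cast hf
    omega
  have hφne : φ ≠ 1 := fun h => by
    rw [h, Pi.one_apply] at hg
    have : 1 = g := by exact_mod_cast hg
    omega
  have hdR := hd.mem_relCharDegrees hirr hne
  exact (conn_of_common (hb.mem_relCharDegrees hθ hθne) hdR hd.pos hf1 (hb.degree_dvd hθ hf)
    ((dvd_mul_left f g).trans (hd.degree_dvd hirr hdeg))).trans
    (conn_of_common hdR (hβ.mem_relCharDegrees hφ hφne) hβ.pos hg1
      ((dvd_mul_right g f).trans (hd.degree_dvd hirr hdeg)) (hβ.degree_dvd hφ hg))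

end Level

/-- Two connected degrees away from a third one are near. -/
theorem near_of_conn {N : Subgroup G} (hNG : N ≤ commutator G) :
    ∀ (n : ℕ) (L : Subgroup G), Nat.card L ≤ n → L.Normal → L ≤ N → Group.IsSolvable L →
      ∀ b c β : ℕ, b ∈ Cfsg.relCharDegrees L → c ∈ Cfsg.relCharDegrees L →
        β ∈ Cfsg.relCharDegrees L → Conn N b c → ¬ Conn N b β → Near N b c := by
  intro n
  induction n with
  | zero =>
    intro L hcard
    have : 0 < Nat.card L := Nat.card_pos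
    omega
  | succ n ih =>
  intro L hcard hLn hLN hsol b c β hb hc hβ hbc hbβ
  have hL' : L ≤ commutator G := hLN.trans hNG
  haveI := hLn
  haveI : Nontrivial L := by
    obtain ⟨χ, ⟨x, hx, hne⟩, -⟩ := hb
    exact ⟨⟨x, hx⟩, 1, fun h => hne (by rw [show x = 1 from congrArg Subtype.val h])⟩
  have hlt : commutator L < ⊤ := Group.IsSolvable.commutator_lt_top_of_nontrivial L
  have hmap : (commutator L).map L.subtype = ⁅L, L⁆ := Subgroup.map_subtype_commutator L
  have hLlt : ⁅L, L⁆ < L := lt_of_le_of_ne (Subgroup.commutator_le_self L) fun h => hlt.ne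
    (Subgroup.map_injective L.subtype_injective
      (by rw [hmap, h, ← MonoidHom.range_eq_map, Subgroup.range_subtype]))
  by_cases hdiv : ∃ r : ℕ, r.Prime ∧ r ∣ ⁅L, L⁆.relIndex L ∧ r ∣ b ∧ r ∣ c
  · obtain ⟨r, hr, -, hrb, hrc⟩ := hdiv
    obtain ⟨θ, hθ, -, hov⟩ := relCharDegrees_iff.1 hb
    obtain ⟨θ', hθ', -, hov'⟩ := relCharDegrees_iff.1 hc
    exact (near_of_common hb hov.pos hov'.pos hr.one_lt hrb hrc).mono hLN
  push Not at hdiv
  have hsame : ∀ x y : ℕ, x ∈ Cfsg.relCharDegrees L → y ∈ Cfsg.relCharDegrees L → ∀ r : ℕ,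
      r.Prime → r ∣ ⁅L, L⁆.relIndex L → (r ∣ x ↔ r ∣ y) → Conn N x y := fun x y hx hy r hr hrM h =>
    (conn_same hL' hr hrM hx hy h).mono hLN
  have hcop : ∀ r : ℕ, r.Prime → r ∣ ⁅L, L⁆.relIndex L → ¬ r ∣ b ∧ ¬ r ∣ c := by
    intro r hr hrM
    by_cases hrb : r ∣ b
    · exfalso
      have hrβ : ¬ r ∣ β := fun h => hbβ (hsame b β hb hβ r hr hrM (iff_of_true hrb h))
      exact hbβ (hbc.trans (hsame c β hc hβ r hr hrM (iff_of_false (hdiv r hr hrM hrb) hrβ)))
    · refine ⟨hrb, fun hrc => ?_⟩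
      have hrβ : r ∣ β := by
        by_contra h
        exact hbβ (hsame b β hb hβ r hr hrM (iff_of_false hrb h))
      exact hbβ (hbc.trans (hsame c β hc hβ r hr hrM (iff_of_true hrc hrβ)))
  obtain ⟨θb, hθb, hθb1, hovb⟩ := relCharDegrees_iff.1 hb
  obtain ⟨θc, hθc, hθc1, hovc⟩ := relCharDegrees_iff.1 hc
  obtain ⟨fb, hfb0, hfb⟩ := IsIrrCharacter.exists_degree hθb
  obtain ⟨fc, hfc0, hfc⟩ := IsIrrCharacter.exists_degree hθc
  by_cases hclin : fc = 1
  · obtain ⟨ν, hν⟩ := IsCharacter.exists_hom (IsIrrCharacter.isCharacter hθc)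
      (by rw [hfc, hclin, Nat.cast_one])
    have hν' : θc = cf ν := hν
    exact (near_of_linear hL' hb (hν' ▸ hθc1) (hν' ▸ hovc) (fun r hr h => (hcop r hr h).1)
      (fun r hr h => (hcop r hr h).2)).mono hLN
  by_cases hblin : fb = 1
  · obtain ⟨ν, hν⟩ := IsCharacter.exists_hom (IsIrrCharacter.isCharacter hθb)
      (by rw [hfb, hblin, Nat.cast_one])
    have hν' : θb = cf ν := hν
    obtain ⟨d, hd, hd0, h1, h2⟩ := (near_of_linear hL' hc (hν' ▸ hθb1) (hν' ▸ hovb)
      (fun r hr h => (hcop r hr h).2) (fun r hr h => (hcop r hr h).1)).mono hLN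
    exact ⟨d, hd, hd0, by rwa [Nat.gcd_comm], by rwa [Nat.gcd_comm]⟩
  have hcopf : ∀ (θ : L → ℂ) (x f : ℕ), Cfsg.IsIrrCharacter L θ → Over L θ x → θ 1 = f →
      (∀ r : ℕ, r.Prime → r ∣ ⁅L, L⁆.relIndex L → ¬ r ∣ x) →
      Cfsg.IsIrrCharacter (commutator L) (fun y : commutator L => θ y) :=
    fun θ x f hθ hov hf hx => restrict_commutator_irr hθ hf
      (Nat.coprime_of_dvd fun k hk hkf hkM => hx k hk hkM (hkf.trans (hov.degree_dvd hθ hf)))
  have hresb := hcopf θb b fb hθb hovb hfb fun r hr h => (hcop r hr h).1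
  have hresc := hcopf θc c fc hθc hovc hfc fun r hr h => (hcop r hr h).2
  have hb' := mem_derived_degrees hθb hovb (not_trivial_of_restrict hfb (by omega) hresb)
  have hc' := mem_derived_degrees hθc hovc (not_trivial_of_restrict hfc (by omega) hresc)
  obtain ⟨φ, hφ, hφ1, hovβ⟩ := relCharDegrees_iff.1 hβ
  obtain ⟨g, hg0, hg⟩ := IsIrrCharacter.exists_degree hφ
  by_cases hφtriv : ∀ x ∈ commutator L, φ x = φ 1
  · exfalso
    apply hbβ
    refine Conn.mono hLN ?_
    by_cases hg1 : g = 1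
    · obtain ⟨ν, hν⟩ := IsCharacter.exists_hom (IsIrrCharacter.isCharacter hφ)
        (by rw [hg, hg1, Nat.cast_one])
      have hν' : φ = cf ν := hν
      obtain ⟨r, hr, hrM, hrν⟩ := exists_prime_of_linear (ν := ν) (hν' ▸ hφ1)
      have hrfb : ¬ r ∣ fb := fun h => (hcop r hr hrM).1 (h.trans (hovb.degree_dvd hθb hfb))
      obtain ⟨θ₀, -, m, hrm, hirr, -, hθ₀f, hθ₀m, -⟩ := decompose hr hθb hfb hrfb
      obtain ⟨θ₁, μ, m₁, hrm₁, hirr₁, hνeq, hθ₁, hθ₁m, hμ⟩ := decompose_linear hr hrν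
      obtain ⟨k, hk, hkey⟩ := key_factor hL' hr hμ
      obtain ⟨d, hd⟩ := exists_over (irr_mul_cf hirr μ)
      have hdeg : (θ₀ * cf μ) 1 = fb := by rw [Pi.mul_apply, hθ₀f, cf_apply_one, mul_one]
      have hne : θ₀ * cf μ ≠ 1 := fun h => by
        rw [h, Pi.one_apply] at hdeg
        have : 1 = fb := by exact_mod_cast hdeg
        omega
      have hdR := hd.mem_relCharDegrees (irr_mul_cf hirr μ) hne
      refine (conn_of_common hb hdR hd.pos (by omega : 1 < fb) (hovb.degree_dvd hθb hfb)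
        (hd.degree_dvd (irr_mul_cf hirr μ) hdeg)).trans
        (conn_of_common hdR hβ hovβ.pos hk (hkey θ₀ fb m d hirr hθ₀f hrfb hrm hθ₀m hd) ?_)
      exact hkey θ₁ 1 m₁ β hirr₁ hθ₁ hr.not_dvd_one hrm₁ hθ₁m (hνeq ▸ hν' ▸ hovβ)
    · exact conn_of_gallagher hL' hθb hφ hresb hφtriv hfb hg (by omega) (by omega) hovb hovβ
  · push Not at hφtriv
    have hβ' := mem_derived_degrees hφ hovβ hφtriv
    haveI : (⁅L, L⁆).Normal := Subgroup.commutator_normal L L
    refine ih ⁅L, L⁆ ?_ inferInstance (hLlt.le.trans hLN)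
      (Group.isSolvable_of_isSolvable_injective (f := Subgroup.inclusion hLlt.le)
        (Subgroup.inclusion_injective _)) b c β hb' hc' hβ' hbc hbβ
    have hlt2 : Nat.card (⁅L, L⁆ : Subgroup G) < Nat.card L :=
      Set.ncard_lt_ncard (SetLike.coe_ssubset_coe.2 hLlt) (Set.toFinite _)
    omega

/-- In the disconnected case one component is complete and the other has diameter at most two. -/
theorem diam_disconnected (N : Subgroup G) [N.Normal] [Group.IsSolvable N]
    (hNG : N ≤ commutator G)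
    (hdisc : ¬ (Cfsg.commonDivisorGraph.induce (Cfsg.relCharDegrees N)).Preconnected) :
    ∃ a₀ : ↥(Cfsg.relCharDegrees N),
      (∀ b c : ↥(Cfsg.relCharDegrees N),
        (Cfsg.commonDivisorGraph.induce (Cfsg.relCharDegrees N)).Reachable a₀ b →
        (Cfsg.commonDivisorGraph.induce (Cfsg.relCharDegrees N)).Reachable a₀ c → b ≠ c →
        (Cfsg.commonDivisorGraph.induce (Cfsg.relCharDegrees N)).Adj b c) ∧
      (∀ b c : ↥(Cfsg.relCharDegrees N),
        ¬ (Cfsg.commonDivisorGraph.induce (Cfsg.relCharDegrees N)).Reachable a₀ b →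
        ¬ (Cfsg.commonDivisorGraph.induce (Cfsg.relCharDegrees N)).Reachable a₀ c → b ≠ c →
        (Cfsg.commonDivisorGraph.induce (Cfsg.relCharDegrees N)).Adj b c ∨
          ∃ d : ↥(Cfsg.relCharDegrees N),
            (Cfsg.commonDivisorGraph.induce (Cfsg.relCharDegrees N)).Adj b d ∧
            (Cfsg.commonDivisorGraph.induce (Cfsg.relCharDegrees N)).Adj d c) := by
  simp only [SimpleGraph.Preconnected, not_forall] at hdisc
  obtain ⟨u, v, huv⟩ := hdisc
  have hpos : ∀ x : ↥(Cfsg.relCharDegrees N), 0 < (x : ℕ) := fun x => by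
    obtain ⟨θ, hθ, -, hov⟩ := relCharDegrees_iff.1 x.2
    exact hov.pos
  haveI : Nontrivial N := by
    obtain ⟨χ, ⟨x, hx, hne⟩, -⟩ := u.2
    exact ⟨⟨x, hx⟩, 1, fun h => hne (by rw [show x = 1 from congrArg Subtype.val h])⟩
  have hlt : ⁅N, N⁆ < N := lt_of_le_of_ne (Subgroup.commutator_le_self N) fun h =>
    (Group.IsSolvable.commutator_lt_top_of_nontrivial N).ne (Subgroup.map_injective
      N.subtype_injective
      (by rw [Subgroup.map_subtype_commutator, h, ← MonoidHom.range_eq_map,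
        Subgroup.range_subtype]))
  obtain ⟨r, hr, hrM⟩ := Nat.exists_prime_and_dvd (relIndex_ne_one hlt)
  have hsame : ∀ x y : ↥(Cfsg.relCharDegrees N), (r ∣ (x : ℕ) ↔ r ∣ (y : ℕ)) →
      (Cfsg.commonDivisorGraph.induce (Cfsg.relCharDegrees N)).Reachable x y := fun x y h => by
    obtain ⟨_, _, hr'⟩ := conn_same hNG hr hrM x.2 y.2 h
    exact hr'
  obtain ⟨a₀, ha₀⟩ : ∃ a₀ : ↥(Cfsg.relCharDegrees N), r ∣ (a₀ : ℕ) := by
    by_contra! hnone
    exact huv (hsame u v (iff_of_false (hnone u) (hnone v)))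
  have hreach : ∀ x : ↥(Cfsg.relCharDegrees N),
      (Cfsg.commonDivisorGraph.induce (Cfsg.relCharDegrees N)).Reachable a₀ x → r ∣ (x : ℕ) := by
    intro x hx
    by_contra hrx
    apply huv
    have hall : ∀ y, (Cfsg.commonDivisorGraph.induce (Cfsg.relCharDegrees N)).Reachable a₀ y :=
      fun y => by
        by_cases hy : r ∣ (y : ℕ)
        · exact hsame a₀ y (iff_of_true ha₀ hy)
        · exact hx.trans (hsame x y (iff_of_false hrx hy))
    exact (hall u).symm.trans (hall v)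
  refine ⟨a₀, fun b c hb hc hne => ?_, fun b c hb hc hne => ?_⟩
  · exact ⟨fun h => hne (Subtype.ext h), lt_of_lt_of_le hr.one_lt
      (Nat.le_of_dvd (Nat.gcd_pos_of_pos_left _ (hpos b))
        (Nat.dvd_gcd (hreach b hb) (hreach c hc)))⟩
  · have hrb : ¬ r ∣ (b : ℕ) := fun h => hb (hsame a₀ b (iff_of_true ha₀ h))
    have hrc : ¬ r ∣ (c : ℕ) := fun h => hc (hsame a₀ c (iff_of_true ha₀ h))
    have hbc : Conn N b c := ⟨b.2, c.2, hsame b c (iff_of_false hrb hrc)⟩
    obtain ⟨d, hd, hd0, h1, h2⟩ := near_of_conn hNG (Nat.card N) N le_rfl inferInstance le_rfl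
      inferInstance b c a₀ b.2 c.2 a₀.2 hbc (fun ⟨_, _, h⟩ => hb h.symm)
    by_cases hdb : d = (b : ℕ)
    · exact Or.inl ⟨fun h => hne (Subtype.ext h), show 1 < Nat.gcd (b : ℕ) (c : ℕ) by rw [← hdb]; exact h2⟩
    by_cases hdc : d = (c : ℕ)
    · exact Or.inl ⟨fun h => hne (Subtype.ext h), show 1 < Nat.gcd (b : ℕ) (c : ℕ) by rw [← hdc]; exact h1⟩
    exact Or.inr ⟨⟨d, hd⟩, ⟨Ne.symm hdb, h1⟩, ⟨hdc, h2⟩⟩

end CfsgLib.RelDeg
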