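import Cfsg.Agent.RelDegGraph.Det
import Cfsg.Agent.Char.Linear
import Mathlib.Combinatorics.SimpleGraph.Connectivity.Connected
import Mathlib.GroupTheory.Perm.Cycle.Type

/-!
# The common-divisor graph of relative degrees has at most two components
-/

set_option autoImplicit false
set_option linter.style.haveILetI false

namespace CfsgLib.RelDeg

open CfsgLib.Char

universe u

variable {G : Type u} [Group G] [Finite G] {N : Subgroup G} [hN : N.Normal]

/-- A homomorphism to the nonzero scalars, as a complex-valued function. -/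
def cf (ν : N →* ℂˣ) : N → ℂ := fun n => (ν n : ℂ)

omit [Finite G] hN in
theorem cf_mul (ν μ : N →* ℂˣ) : cf (ν * μ) = cf ν * cf μ := by
  funext n; simp [cf]

omit [Finite G] hN in
theorem cf_pow (ν : N →* ℂˣ) (k : ℕ) : cf (ν ^ k) = cf ν ^ k := by
  funext n; simp [cf]

omit [Finite G] hN in
theorem cf_irr (ν : N →* ℂˣ) : Cfsg.IsIrrCharacter N (cf ν) := isIrrCharacter_ofHom ν

omit [Finite G] hN in
theorem cf_apply_one (ν : N →* ℂˣ) : cf ν 1 = 1 := by simp [cf]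

omit hN in
theorem detChar_cf (ν : N →* ℂˣ) : Cfsg.detChar (cf ν) = cf ν :=
  detChar_of_degree_one (IsIrrCharacter.isCharacter (cf_irr ν)) (cf_apply_one ν)

omit hN in
theorem detChar_mul_cf {θ : N → ℂ} (hθ : Cfsg.IsCharacter N θ) {f : ℕ} (hf : θ 1 = f)
    (ν : N →* ℂˣ) : Cfsg.detChar (θ * cf ν) = cf ν ^ f * Cfsg.detChar θ := by
  obtain ⟨D, hD, htw⟩ := exists_detHom hθ hf
  funext n
  rw [Pi.mul_apply, Pi.pow_apply, hD]
  exact htw ν n

omit hN in
theorem irr_mul_cf {θ : N → ℂ} (hθ : Cfsg.IsIrrCharacter N θ) (ν : N →* ℂˣ) :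
    Cfsg.IsIrrCharacter N (θ * cf ν) := by
  haveI := Fintype.ofFinite N
  exact IsIrrCharacter.mul_hom hθ ν

omit [Finite G] hN in
theorem cf_mul_left_cancel (ν : N →* ℂˣ) {φ ψ : N → ℂ} (h : φ * cf ν = ψ * cf ν) : φ = ψ :=
  funext fun n => mul_right_cancel₀ (ν n).ne_zero (congrFun h n)

/-- Two degrees in the same component. -/
def Conn (N : Subgroup G) (a b : ℕ) : Prop :=
  ∃ (ha : a ∈ Cfsg.relCharDegrees N) (hb : b ∈ Cfsg.relCharDegrees N),
    (Cfsg.commonDivisorGraph.induce (Cfsg.relCharDegrees N)).Reachable ⟨a, ha⟩ ⟨b, hb⟩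

omit [Finite G] hN in
theorem Conn.symm {a b : ℕ} (h : Conn N a b) : Conn N b a := by
  obtain ⟨ha, hb, h⟩ := h
  exact ⟨hb, ha, h.symm⟩

omit [Finite G] hN in
theorem Conn.trans {a b c : ℕ} (h : Conn N a b) (h' : Conn N b c) : Conn N a c := by
  obtain ⟨ha, hb, h⟩ := h
  obtain ⟨hb', hc, h'⟩ := h'
  exact ⟨ha, hc, h.trans h'⟩

omit [Finite G] hN in
theorem conn_of_common {a b k : ℕ} (ha : a ∈ Cfsg.relCharDegrees N)
    (hb : b ∈ Cfsg.relCharDegrees N) (hb0 : 0 < b) (hk : 1 < k) (hka : k ∣ a) (hkb : k ∣ b) :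
    Conn N a b := by
  refine ⟨ha, hb, ?_⟩
  by_cases hab : a = b
  · subst hab; exact SimpleGraph.Reachable.refl _
  · exact SimpleGraph.Adj.reachable ⟨hab, lt_of_lt_of_le hk
      (Nat.le_of_dvd (Nat.gcd_pos_of_pos_right _ hb0) (Nat.dvd_gcd hka hkb))⟩

omit [Finite G] hN in
theorem Over.pos {θ : N → ℂ} {d : ℕ} (h : Over N θ d) : 0 < d := by
  obtain ⟨χ, hχ, hd, -⟩ := h
  obtain ⟨n, hn, hn'⟩ := IsIrrCharacter.exists_degree hχ
  rw [hd] at hn'
  have : d = n := by exact_mod_cast hn'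
  omega

omit [Finite G] hN in
theorem pow_injective_of_coprime {M : Type*} [Monoid M] {x y : M} {n R : ℕ} (hc : n.Coprime R)
    (hx : x ^ R = 1) (hy : y ^ R = 1) (h : x ^ n = y ^ n) : x = y := by
  obtain ⟨k, hk⟩ := exists_pow_eq_self_of_coprime (x := ((x, y) : M × M))
    (hc.coprime_dvd_right (orderOf_dvd_of_pow_eq_one (Prod.ext hx hy)))
  have h1 : (x ^ n) ^ k = x := congrArg Prod.fst hk
  have h2 : (y ^ n) ^ k = y := congrArg Prod.snd hk
  rw [← h1, ← h2, h]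

/-- Two degrees with a common neighbour. -/
def Near (N : Subgroup G) (a b : ℕ) : Prop :=
  ∃ d ∈ Cfsg.relCharDegrees N, 0 < d ∧ 1 < Nat.gcd a d ∧ 1 < Nat.gcd d b

/-- The `r`-part of the order of `N`. -/
noncomputable def rOrd (N : Subgroup G) (r : ℕ) : ℕ := r ^ (Nat.card N).factorization r

omit [Finite G] hN in
theorem coprime_rOrd {r k : ℕ} (hr : r.Prime) (hk : ¬ r ∣ k) : k.Coprime (rOrd N r) :=
  ((hr.coprime_iff_not_dvd.2 hk).symm).pow_right _

/-- A nontrivial linear character of `r`-power order. -/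
def IsRLin (r : ℕ) (ν : N →* ℂˣ) : Prop := cf ν ≠ 1 ∧ cf ν ^ rOrd N r = 1

theorem mem_inertia_mul {r : ℕ} (hr : r.Prime) {θ₀ : N → ℂ} (hθ : Cfsg.IsIrrCharacter N θ₀)
    {f m : ℕ} (hf : θ₀ 1 = f) (hrf : ¬ r ∣ f) (hrm : ¬ r ∣ m)
    (hm : Cfsg.detChar θ₀ ^ m = 1) {ν : N →* ℂˣ} (hν : cf ν ^ rOrd N r = 1) {g : G}
    (hg : g ∈ inertia (θ₀ * cf ν)) : g ∈ inertia θ₀ ∧ g ∈ inertia (cf ν) := by
  rw [mem_inertia] at hg
  have hc := IsIrrCharacter.isCharacter hθ
  have h1 := congrArg Cfsg.detChar hg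
  rw [detChar_conjOn (IsIrrCharacter.isCharacter (irr_mul_cf hθ ν)), detChar_mul_cf hc hf] at h1
  have h2 : conjOn g (cf ν) ^ (f * m) = cf ν ^ (f * m) := by
    have h3 := congrArg (· ^ m) h1
    simp only [← conjOn_pow, mul_pow, hm, mul_one, ← pow_mul] at h3
    rwa [conjOn_pow] at h3
  have h4 : conjOn g (cf ν) = cf ν :=
    pow_injective_of_coprime (coprime_rOrd hr fun h => (hr.dvd_mul.1 h).elim hrf hrm)
      (by rw [← conjOn_pow, hν, conjOn_fun_one]) hν h2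
  refine ⟨?_, h4⟩
  rw [conjOn_mul, h4] at hg
  exact cf_mul_left_cancel ν hg

/-- All degrees over a twist of `ν` share a fixed factor. -/
theorem key_factor (hNG : N ≤ commutator G) {r : ℕ} (hr : r.Prime) {ν : N →* ℂˣ}
    (hν : IsRLin r ν) :
    ∃ k, 1 < k ∧ ∀ (θ₀ : N → ℂ) (f m c : ℕ), Cfsg.IsIrrCharacter N θ₀ → θ₀ 1 = f → ¬ r ∣ f →
      ¬ r ∣ m → Cfsg.detChar θ₀ ^ m = 1 → Over N (θ₀ * cf ν) c → k ∣ c := by
  by_cases htop : inertia (cf ν) = ⊤
  · refine ⟨r, hr.one_lt, fun θ₀ f m c hθ hf hrf hrm hm hov => ?_⟩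
    have hdet := detChar_mul_cf (IsIrrCharacter.isCharacter hθ) hf ν
    have hD : Cfsg.detChar (θ₀ * cf ν) ^ m = cf ν ^ (f * m) := by
      rw [hdet, mul_pow, hm, mul_one, pow_mul]
    have h1 := orderOf_dvd_of_invariant hNG hov (irr_mul_cf hθ ν) m (fun g => by
      rw [hD, conjOn_pow, show conjOn g (cf ν) = cf ν from
        (mem_inertia _ g).1 (htop ▸ Subgroup.mem_top g)])
    rw [hD, ← pow_mul] at h1
    by_contra hrc
    refine hν.1 (pow_injective_of_coprime (coprime_rOrd hr fun h => ?_) hν.2 (one_pow _)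
      (h1.trans (one_pow _).symm))
    exact (hr.dvd_mul.1 h).elim (fun h => (hr.dvd_mul.1 h).elim hrf hrm) hrc
  · refine ⟨(inertia (cf ν)).index, ?_, fun θ₀ f m c hθ hf hrf hrm hm hov => ?_⟩
    · exact Subgroup.one_lt_index_of_ne_top htop
    · exact (Subgroup.index_dvd_of_le fun g hg =>
        (mem_inertia_mul hr hθ hf hrf hrm hm hν.2 hg).2).trans (hov.index_dvd (irr_mul_cf hθ ν))

theorem key_factor' (hNG : N ≤ commutator G) {r : ℕ} (hr : r.Prime) {ν : N →* ℂˣ}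
    (hν : IsRLin r ν) :
    ∃ k, 1 < k ∧ (∀ b, Over N (cf ν) b → k ∣ b) ∧
    ∀ (θ₀ : N → ℂ) (f m c : ℕ), Cfsg.IsIrrCharacter N θ₀ → θ₀ 1 = f → ¬ r ∣ f →
      ¬ r ∣ m → Cfsg.detChar θ₀ ^ m = 1 → Over N (θ₀ * cf ν) c → k ∣ c := by
  obtain ⟨k, hk, h⟩ := key_factor hNG hr hν
  refine ⟨k, hk, fun b hb => h 1 1 1 b isIrrCharacter_one (by simp) ?_ ?_ ?_ (by rwa [one_mul]), h⟩
  · simpa using hr.ne_one
  · simpa using hr.ne_one
  · rw [pow_one]
    exact detChar_of_degree_one (IsIrrCharacter.isCharacter isIrrCharacter_one) (by simp)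

theorem exists_isRLin {r : ℕ} (hr : r.Prime) (hdvd : r ∣ ⁅N, N⁆.relIndex N) :
    ∃ ν : N →* ℂˣ, IsRLin r ν := by
  have hcard : Nat.card (N →* ℂˣ) = ⁅N, N⁆.relIndex N := by
    rw [card_hom_eq_index_commutator, Subgroup.relIndex]
    congr 1
    exact Subgroup.map_injective N.subtype_injective (by
      rw [Subgroup.map_subtype_commutator, Subgroup.subgroupOf_map_subtype,
        inf_eq_left.2 (Subgroup.commutator_le_self N)])
  haveI : Finite (N →* ℂˣ) := Nat.finite_of_card_ne_zero (by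
    rw [hcard]; exact Subgroup.index_ne_zero_of_finite)
  haveI := Fact.mk hr
  obtain ⟨ν, hν⟩ := exists_prime_orderOf_dvd_card' r (hcard.symm ▸ hdvd)
  have hinj : ∀ μ : N →* ℂˣ, cf μ = 1 → μ = 1 := fun μ h =>
    MonoidHom.ext fun n => Units.ext (congrFun h n)
  refine ⟨ν, fun h => hr.ne_one (by rw [← hν, hinj ν h, orderOf_one]), ?_⟩
  have h1 : ν ^ rOrd N r = 1 := (orderOf_dvd_iff_pow_eq_one (n := rOrd N r)).1 (by
    rw [hν]
    unfold rOrd
    have hrn : r ∣ Nat.card N := hdvd.trans (Subgroup.index_dvd_card _)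
    exact dvd_pow_self r (hr.factorization_pos_of_dvd Nat.card_pos.ne' hrn).ne')
  rw [← cf_pow, h1]
  funext n; simp [cf]

theorem coprime_index_mul {H K : Subgroup G} (hc : H.index.Coprime K.index) (g : G) :
    ∃ k ∈ K, ∃ h ∈ H, g = k * h := by
  have hmul := Subgroup.relIndex_mul_index (inf_le_left : K ⊓ H ≤ K)
  rw [Subgroup.inf_relIndex_left] at hmul
  have hd1 : K.index ∣ (K ⊓ H).index := Subgroup.index_dvd_of_le inf_le_left
  have hd2 : H.index ∣ (K ⊓ H).index := Subgroup.index_dvd_of_le inf_le_right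
  have hle : (K ⊓ H).index ≤ K.index * H.index := Subgroup.index_inf_le
  have heq : (K ⊓ H).index = K.index * H.index :=
    le_antisymm hle (Nat.le_of_dvd (Nat.pos_of_ne_zero Subgroup.index_ne_zero_of_finite)
      (hc.symm.mul_dvd_of_dvd_of_dvd hd1 hd2))
  have hrel : H.relIndex K = H.index := by
    rw [heq, mul_comm K.index] at hmul
    exact Nat.eq_of_mul_eq_mul_right (Nat.pos_of_ne_zero Subgroup.index_ne_zero_of_finite) hmul
  let F : K ⧸ H.subgroupOf K → G ⧸ H := Quotient.map' Subtype.val (fun a b hab => by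
    rw [QuotientGroup.leftRel_apply] at hab ⊢
    simpa [Subgroup.mem_subgroupOf] using hab)
  have hFinj : Function.Injective F := fun a b => by
    induction a using Quotient.inductionOn'
    induction b using Quotient.inductionOn'
    intro hab
    simp only [F] at hab
    rw [Quotient.map'_mk'', Quotient.map'_mk'', Quotient.eq'', QuotientGroup.leftRel_apply] at hab
    rw [Quotient.eq'', QuotientGroup.leftRel_apply, Subgroup.mem_subgroupOf]
    simpa using hab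
  have hbij : Function.Bijective F := (Nat.bijective_iff_injective_and_card F).2 ⟨hFinj, hrel⟩
  obtain ⟨q, hq⟩ := hbij.2 (g : G ⧸ H)
  induction q using Quotient.inductionOn' with
  | h a =>
    simp only [F] at hq
    rw [Quotient.map'_mk''] at hq
    exact ⟨a, a.2, (a : G)⁻¹ * g, QuotientGroup.eq.1 hq, by group⟩

/-- An orbit cannot be a translate of a larger coprime one. -/
theorem orbit_translate {φ ψ : N → ℂ} (hφ : ∀ n, φ n ≠ 0) (hψ : ∀ n, ψ n ≠ 0)
    (hc : (inertia φ).index.Coprime (inertia ψ).index)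
    (hs : (inertia (φ * ψ)).index = (inertia φ).index) (g : G) :
    conjOn g ψ ^ (inertia φ).index = ψ ^ (inertia φ).index := by
  haveI := Fintype.ofFinite G
  classical
  have himg : ∀ g : G, (conjOrbit φ).image (fun w => w * conjOn g ψ) = conjOrbit (φ * ψ) := by
    intro g
    refine Finset.eq_of_subset_of_card_le ?_ ?_
    · intro w hw
      obtain ⟨w', hw', rfl⟩ := Finset.mem_image.1 hw
      obtain ⟨h, rfl⟩ := mem_conjOrbit.1 hw'
      obtain ⟨k, hk, x, hx, hkx⟩ := coprime_index_mul hc.symm (h * g⁻¹)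
      refine mem_conjOrbit.2 ⟨k⁻¹ * h, ?_⟩
      rw [conjOn_mul, conjOn_mul_of_mem (inv_mem hk)]
      congr 1
      have h2 : k⁻¹ * h = x * g := by
        rw [show h = k * x * g by rw [← hkx, inv_mul_cancel_right]]; group
      rw [h2, conjOn_mul_of_mem hx]
    · rw [card_conjOrbit, hs, ← card_conjOrbit, Finset.card_image_of_injective]
      intro w w' hw
      exact funext fun n => mul_right_cancel₀ (by rw [conjOn_apply]; exact hψ _) (congrFun hw n)
  have hprod : ∀ g : G, (∏ w ∈ conjOrbit φ, w) * conjOn g ψ ^ (inertia φ).index =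
      ∏ w ∈ conjOrbit (φ * ψ), w := by
    intro g
    rw [← himg g, Finset.prod_image, Finset.prod_mul_distrib, Finset.prod_const, card_conjOrbit]
    intro w _ w' _ hw
    exact funext fun n => mul_right_cancel₀ (by rw [conjOn_apply]; exact hψ _) (congrFun hw n)
  have h := (hprod g).trans (hprod 1).symm
  rw [conjOn_one] at h
  refine funext fun n => mul_left_cancel₀ ?_ (congrFun h n)
  rw [Finset.prod_apply]
  refine Finset.prod_ne_zero_iff.2 fun w hw => ?_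
  obtain ⟨x, rfl⟩ := mem_conjOrbit.1 hw
  rw [conjOn_apply]
  exact hφ _

theorem cf_ne_one_of_index {ν : N →* ℂˣ} (h : 1 < (inertia (cf ν)).index) : cf ν ≠ 1 := fun h1 => by
  have : inertia (cf ν) = ⊤ := eq_top_iff.2 fun g _ => by
    rw [mem_inertia, h1, conjOn_fun_one]
  rw [this, Subgroup.index_top] at h
  omega

omit [Finite G] hN in
theorem near_of_common {a b k : ℕ} (ha : a ∈ Cfsg.relCharDegrees N) (ha0 : 0 < a) (hb0 : 0 < b)
    (hk : 1 < k) (hka : k ∣ a) (hkb : k ∣ b) : Near N a b :=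
  ⟨a, ha, ha0, by rw [Nat.gcd_self]; exact hk.trans_le (Nat.le_of_dvd ha0 hka),
    hk.trans_le (Nat.le_of_dvd (Nat.gcd_pos_of_pos_right _ hb0) (Nat.dvd_gcd hka hkb))⟩

omit [Finite G] hN in
theorem near_of_two {a b c k l : ℕ} (hc : c ∈ Cfsg.relCharDegrees N) (hc0 : 0 < c) (hb0 : 0 < b)
    (hk : 1 < k) (hka : k ∣ a) (hkc : k ∣ c) (hl : 1 < l) (hlb : l ∣ b) (hlc : l ∣ c) :
    Near N a b :=
  ⟨c, hc, hc0, hk.trans_le (Nat.le_of_dvd (Nat.gcd_pos_of_pos_right _ hc0) (Nat.dvd_gcd hka hkc)),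
    hl.trans_le (Nat.le_of_dvd (Nat.gcd_pos_of_pos_right _ hb0) (Nat.dvd_gcd hlc hlb))⟩

omit [Finite G] hN in
theorem Near.conn {a b : ℕ} (h : Near N a b) (ha : a ∈ Cfsg.relCharDegrees N)
    (hb : b ∈ Cfsg.relCharDegrees N) (hb0 : 0 < b) : Conn N a b := by
  obtain ⟨d, hd, hd0, h1, h2⟩ := h
  exact (conn_of_common ha hd hd0 h1 (Nat.gcd_dvd_left a d) (Nat.gcd_dvd_right a d)).trans
    (conn_of_common hd hb hb0 h2 (Nat.gcd_dvd_left d b) (Nat.gcd_dvd_right d b))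

theorem near_good {r : ℕ} (hr : r.Prime) {μ ν : N →* ℂˣ}
    (hμ : cf μ ^ rOrd N r = 1) (hν : cf ν ^ rOrd N r = 1) {a b : ℕ}
    (haR : a ∈ Cfsg.relCharDegrees N) (ha0 : 0 < a) (hb0 : 0 < b)
    (hsa : (inertia (cf μ)).index ∣ a) (htb : (inertia (cf ν)).index ∣ b)
    (hsμ : 1 < (inertia (cf μ)).index) (hsν : 1 < (inertia (cf ν)).index)
    (hra : ¬ r ∣ a) (hrb : ¬ r ∣ b) : Near N a b := by
  set s := (inertia (cf μ)).index with hsd
  set t := (inertia (cf ν)).index with htd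
  by_cases hg : s.Coprime t
  swap
  · exact near_of_common haR ha0 hb0 (Nat.one_lt_iff_ne_zero_and_ne_one.2
      ⟨Nat.gcd_ne_zero_left (by omega), hg⟩) ((Nat.gcd_dvd_left s t).trans hsa)
      ((Nat.gcd_dvd_right s t).trans htb)
  have hν0 : ∀ n, cf ν n ≠ 0 := fun n => (ν n).ne_zero
  have hμ0 : ∀ n, cf μ n ≠ 0 := fun n => (μ n).ne_zero
  have hne : cf μ * cf ν ≠ 1 := by
    intro h1
    have hI : inertia (cf μ) = inertia (cf ν) := by
      ext g
      simp only [mem_inertia]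
      have h2 : conjOn g (cf μ) * conjOn g (cf ν) = cf μ * cf ν := by
        rw [← conjOn_mul, h1, conjOn_fun_one]
      constructor <;> intro hh <;> rw [hh] at h2 <;> funext n
      · exact mul_left_cancel₀ (hμ0 n) (congrFun h2 n)
      · exact mul_right_cancel₀ (hν0 n) (congrFun h2 n)
    rw [hsd, htd, hI] at hg
    rw [Nat.coprime_self] at hg
    omega
  obtain ⟨c, hc⟩ := exists_over (cf_irr (μ * ν))
  rw [cf_mul] at hc
  have hzirr : Cfsg.IsIrrCharacter N (cf μ * cf ν) := cf_mul μ ν ▸ cf_irr (μ * ν)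
  have hcR := hc.mem_relCharDegrees hzirr hne
  have hs'c := hc.index_dvd hzirr
  set s' := (inertia (cf μ * cf ν)).index with hs'
  by_cases h1 : s'.Coprime s ∨ s'.Coprime t
  swap
  · simp only [not_or] at h1
    exact near_of_two hcR hc.pos hb0 (Nat.one_lt_iff_ne_zero_and_ne_one.2
      ⟨Nat.gcd_ne_zero_right (by omega), h1.1⟩) ((Nat.gcd_dvd_right s' s).trans hsa)
      ((Nat.gcd_dvd_left s' s).trans hs'c) (Nat.one_lt_iff_ne_zero_and_ne_one.2
      ⟨Nat.gcd_ne_zero_right (by omega), h1.2⟩) ((Nat.gcd_dvd_right s' t).trans htb)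
      ((Nat.gcd_dvd_left s' t).trans hs'c)
  exfalso
  have core : ∀ (φ ψ : N → ℂ), (∀ n, φ n ≠ 0) → (∀ n, ψ n ≠ 0) → ψ ^ rOrd N r = 1 →
      ¬ r ∣ (inertia φ).index → (inertia φ).index.Coprime (inertia ψ).index →
      (inertia (φ * ψ)).index.Coprime (inertia ψ).index → 1 < (inertia ψ).index → False := by
    intro φ ψ hφ0 hψ0 hψr hrs hco hco' ht
    have hDz : inertia φ ⊓ inertia ψ ≤ inertia (φ * ψ) := fun g hg => by
      rw [mem_inertia, conjOn_mul, (mem_inertia φ g).1 hg.1, (mem_inertia ψ g).1 hg.2]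
    have hzψ : inertia (φ * ψ) ⊓ inertia ψ ≤ inertia φ := fun g hg => by
      have h2 := (mem_inertia _ g).1 hg.1
      rw [conjOn_mul, (mem_inertia ψ g).1 hg.2] at h2
      exact (mem_inertia φ g).2 (funext fun n => mul_right_cancel₀ (hψ0 n) (congrFun h2 n))
    have hd1 : (inertia (φ * ψ)).index ∣ (inertia φ).index := by
      refine hco'.dvd_of_dvd_mul_right ((Subgroup.index_dvd_of_le hDz).trans (dvd_of_eq ?_))
      exact le_antisymm Subgroup.index_inf_le (Nat.le_of_dvd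
        (Nat.pos_of_ne_zero Subgroup.index_ne_zero_of_finite)
        (hco.mul_dvd_of_dvd_of_dvd (Subgroup.index_dvd_of_le inf_le_left)
          (Subgroup.index_dvd_of_le inf_le_right)))
    have hd2 : (inertia φ).index ∣ (inertia (φ * ψ)).index := by
      refine hco.dvd_of_dvd_mul_right ((Subgroup.index_dvd_of_le hzψ).trans (dvd_of_eq ?_))
      exact le_antisymm Subgroup.index_inf_le (Nat.le_of_dvd
        (Nat.pos_of_ne_zero Subgroup.index_ne_zero_of_finite)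
        (hco'.mul_dvd_of_dvd_of_dvd (Subgroup.index_dvd_of_le inf_le_left)
          (Subgroup.index_dvd_of_le inf_le_right)))
    have hfix : inertia ψ = ⊤ := eq_top_iff.2 fun g _ => (mem_inertia ψ g).2
      (pow_injective_of_coprime (coprime_rOrd hr hrs)
        (by rw [← conjOn_pow, hψr, conjOn_fun_one]) hψr
        (orbit_translate hφ0 hψ0 hco (Nat.dvd_antisymm hd1 hd2) g))
    rw [hfix, Subgroup.index_top] at ht
    omega
  rcases h1 with h1 | h1
  · exact core (cf ν) (cf μ) hν0 hμ0 hμ (fun h => hrb (h.trans htb)) hg.symm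
      (by rwa [mul_comm]) hsμ
  · exact core (cf μ) (cf ν) hμ0 hν0 hν (fun h => hra (h.trans hsa)) hg h1 hsν

/-- Splitting off the `r`-part of the determinant. -/
theorem decompose {r : ℕ} (hr : r.Prime) {θ : N → ℂ} (hθ : Cfsg.IsIrrCharacter N θ) {f : ℕ}
    (hf : θ 1 = f) (hrf : ¬ r ∣ f) :
    ∃ (θ₀ : N → ℂ) (μ : N →* ℂˣ) (m : ℕ), ¬ r ∣ m ∧ Cfsg.IsIrrCharacter N θ₀ ∧
      θ = θ₀ * cf μ ∧ θ₀ 1 = f ∧ Cfsg.detChar θ₀ ^ m = 1 ∧ cf μ ^ rOrd N r = 1 := by
  have hθc := IsIrrCharacter.isCharacter hθ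
  obtain ⟨D, hD, -⟩ := exists_detHom hθc hf
  have hDf : Cfsg.detChar θ = cf D := funext hD
  obtain ⟨R, hR⟩ : ∃ R, R = rOrd N r := ⟨_, rfl⟩
  obtain ⟨m, hm⟩ : ∃ m, m = Nat.card N / R := ⟨_, rfl⟩
  have hRm : R * m = Nat.card N := by
    rw [hm, hR]; exact Nat.ordProj_mul_ordCompl_eq_self _ _
  have hrm : ¬ r ∣ m := by
    rw [hm, hR]; exact Nat.not_dvd_ordCompl hr Nat.card_pos.ne'
  have hfm : (f * m).Coprime R := hR ▸ coprime_rOrd hr fun h => (hr.dvd_mul.1 h).elim hrf hrm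
  have hcard : ∀ (η : N →* ℂˣ), η ^ Nat.card N = 1 := fun η => MonoidHom.ext fun n => by
    rw [MonoidHom.pow_apply, ← map_pow, pow_card_eq_one', map_one, MonoidHom.one_apply]
  have hpm : ∀ (η : N →* ℂˣ) (i j : ℕ), (η ^ i) ^ j = η ^ (i * j) := fun η i j => (pow_mul η i j).symm
  have hcancel : ∀ (η : N →* ℂˣ), η⁻¹ * η = 1 := fun η => inv_mul_cancel η
  have hip : ∀ (η : N →* ℂˣ) (i : ℕ), η⁻¹ ^ i = (η ^ i)⁻¹ := fun η i => inv_pow η i
  obtain ⟨k, hk⟩ := exists_pow_eq_self_of_coprime (x := D ^ m) (n := f * m)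
    (hfm.coprime_dvd_right (orderOf_dvd_of_pow_eq_one (by rw [hpm, mul_comm, hRm, hcard])))
  obtain ⟨μ, hμ⟩ : ∃ μ : N →* ℂˣ, μ = (D ^ m) ^ k := ⟨_, rfl⟩
  have hμR : μ ^ R = 1 := by
    rw [hμ, hpm, hpm, show m * (k * R) = Nat.card N * k by rw [← hRm]; ring, ← hpm,
      hcard]
    exact MonoidHom.ext fun n => by simp
  have hμfm : μ ^ (f * m) = D ^ m := by rw [hμ, hpm (D ^ m), mul_comm k, ← hpm (D ^ m)]; exact hk
  obtain ⟨θ₀, hθ₀⟩ : ∃ θ₀, θ₀ = θ * cf μ⁻¹ := ⟨_, rfl⟩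
  have hθ₀irr : Cfsg.IsIrrCharacter N θ₀ := hθ₀ ▸ irr_mul_cf hθ _
  have hθeq : θ = θ₀ * cf μ := by
    rw [hθ₀, mul_assoc, ← cf_mul, hcancel]; funext n; simp [cf]
  have hθ₀f : θ₀ 1 = f := by rw [hθ₀, Pi.mul_apply, hf, cf_apply_one, mul_one]
  have hθ₀m : Cfsg.detChar θ₀ ^ m = 1 := by
    rw [hθ₀, detChar_mul_cf hθc hf, hDf, mul_pow, ← pow_mul, ← cf_pow, ← cf_pow, ← cf_mul,
      hip, hμfm, hcancel]
    funext n; simp [cf]
  have hμR' : cf μ ^ rOrd N r = 1 := by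
    rw [← hR, ← cf_pow, hμR]; funext n; simp [cf]
  exact ⟨θ₀, μ, m, hrm, hθ₀irr, hθeq, hθ₀f, hθ₀m, hμR'⟩

/-- A degree prime to `r` is connected to every linear character of `r`-power order, or lies over
one. -/
theorem degree_cases (hNG : N ≤ commutator G) {r : ℕ} (hr : r.Prime) {a : ℕ}
    (ha : a ∈ Cfsg.relCharDegrees N) (hra : ¬ r ∣ a) :
    (∀ ν : N →* ℂˣ, IsRLin r ν → ∀ b, Over N (cf ν) b → Conn N a b) ∨
    ∃ μ : N →* ℂˣ, IsRLin r μ ∧ Over N (cf μ) a ∧ 1 < (inertia (cf μ)).index := by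
  obtain ⟨θ, hθ, hθ1, hov⟩ := relCharDegrees_iff.1 ha
  have hθc := IsIrrCharacter.isCharacter hθ
  obtain ⟨f, -, hf⟩ := IsIrrCharacter.exists_degree hθ
  have hfa := hov.degree_dvd hθ hf
  have hrf : ¬ r ∣ f := fun h => hra (h.trans hfa)
  obtain ⟨θ₀, μ, m, hrm, hθ₀irr, hθeq, hθ₀f, hθ₀m, hμR'⟩ := decompose hr hθ hf hrf
  obtain ⟨R, hR⟩ : ∃ R, R = rOrd N r := ⟨_, rfl⟩
  by_cases h0 : θ₀ = 1
  · right
    have hθμ : θ = cf μ := by rw [hθeq, h0, one_mul]
    subst hθμ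
    refine ⟨μ, ⟨hθ1, hμR'⟩, hov, ?_⟩
    rcases Nat.lt_or_ge 1 (inertia (cf μ)).index with h | h
    · exact h
    exfalso
    have hne : (inertia (cf μ)).index ≠ 0 := Subgroup.index_ne_zero_of_finite
    have htop : inertia (cf μ) = ⊤ := Subgroup.index_eq_one.1 (by omega)
    have h1 := orderOf_dvd_of_invariant hNG hov hθ 1 fun g => by
      rw [pow_one, detChar_cf]; exact (mem_inertia _ g).1 (htop ▸ Subgroup.mem_top g)
    rw [pow_one, detChar_cf] at h1
    exact hθ1 (pow_injective_of_coprime (coprime_rOrd hr hra) hμR' (one_pow _)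
      (h1.trans (one_pow _).symm))
  · left
    intro ν hν b hb
    obtain ⟨c, hc⟩ := exists_over (irr_mul_cf hθ₀irr ν)
    have hne : θ₀ * cf ν ≠ 1 := by
      intro h1
      have hf1 : f = 1 := by
        have h2 := congrFun h1 1
        rw [Pi.mul_apply, hθ₀f, cf_apply_one, mul_one, Pi.one_apply] at h2
        exact_mod_cast h2
      have h0' : θ₀ = cf ν⁻¹ := cf_mul_left_cancel ν (by
        rw [h1, ← cf_mul, (show ν⁻¹ * ν = 1 from inv_mul_cancel ν)]; funext n; simp [cf])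
      rw [h0', detChar_cf] at hθ₀m
      apply h0
      rw [h0']
      refine pow_injective_of_coprime (coprime_rOrd (N := N) hr hrm) ?_ (one_pow _)
        (hθ₀m.trans (one_pow _).symm)
      funext n
      have h3 := congrFun hν.2 n
      simp only [cf, Pi.pow_apply, Pi.one_apply] at h3 ⊢
      simp [h3]
    have hcR := hc.mem_relCharDegrees (irr_mul_cf hθ₀irr ν) hne
    have hbR := hb.mem_relCharDegrees (cf_irr ν) hν.1
    obtain ⟨key, hkey, hkeyb, hkeyc⟩ := key_factor' hNG hr hν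
    refine Conn.trans ?_ (conn_of_common hcR hbR hb.pos hkey
      (hkeyc θ₀ f m c hθ₀irr hθ₀f hrf hrm hθ₀m hc) (hkeyb b hb))
    by_cases hf1 : 1 < f
    · exact conn_of_common ha hcR hc.pos hf1 hfa (hc.degree_dvd (irr_mul_cf hθ₀irr ν) (by
        rw [Pi.mul_apply, hθ₀f, cf_apply_one, mul_one]))
    have hI₀θ : inertia θ ≤ inertia θ₀ := fun g hg =>
      (mem_inertia_mul hr hθ₀irr hθ₀f hrf hrm hθ₀m hμR' (hθeq ▸ hg)).1
    by_cases htop : inertia θ₀ = ⊤
    swap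
    · exact conn_of_common ha hcR hc.pos (Subgroup.one_lt_index_of_ne_top htop)
        ((Subgroup.index_dvd_of_le hI₀θ).trans (hov.index_dvd hθ))
        ((Subgroup.index_dvd_of_le fun g hg =>
          (mem_inertia_mul hr hθ₀irr hθ₀f hrf hrm hθ₀m hν.2 hg).1).trans
          (hc.index_dvd (irr_mul_cf hθ₀irr ν)))
    obtain ⟨n₁, hn₁, hn₁'⟩ := IsIrrCharacter.exists_degree hθ₀irr
    have hfn : f = n₁ := by exact_mod_cast hθ₀f.symm.trans hn₁'
    have hone : θ₀ 1 = 1 := by rw [hθ₀f, show f = 1 by omega, Nat.cast_one]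
    have hdet0 : Cfsg.detChar θ₀ = θ₀ :=
      detChar_of_degree_one (IsIrrCharacter.isCharacter hθ₀irr) hone
    rw [hdet0] at hθ₀m
    have hann : ∀ (η : N →* ℂˣ) (d : ℕ), cf η ^ R = 1 → Over N (θ₀ * cf η) d → θ₀ ^ d = 1 := by
      intro η d hη hd
      have hD2 : Cfsg.detChar (θ₀ * cf η) ^ R = θ₀ ^ R := by
        rw [detChar_mul_cf (IsIrrCharacter.isCharacter hθ₀irr) (f := 1) (by simpa using hone),
          pow_one, hdet0, mul_pow, hη, one_mul]
      have h1 := orderOf_dvd_of_invariant hNG hd (irr_mul_cf hθ₀irr η) R fun g => by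
        rw [hD2, conjOn_pow, show conjOn g θ₀ = θ₀ from
          (mem_inertia _ g).1 (htop ▸ Subgroup.mem_top g)]
      rw [hD2, ← pow_mul] at h1
      refine pow_injective_of_coprime (n := R) (R := m)
        ((coprime_rOrd (N := N) hr hrm).symm.coprime_dvd_left (dvd_of_eq hR)) ?_ (one_pow _) ?_
      · rw [← pow_mul, mul_comm, pow_mul, hθ₀m, one_pow]
      · rw [← pow_mul, mul_comm, h1, one_pow]
    have hoa : θ₀ ^ a = 1 := hann μ a (by rw [hR]; exact hμR') (hθeq ▸ hov)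
    have hoc : θ₀ ^ c = 1 := hann ν c (by rw [hR]; exact hν.2) hc
    have ho1 : orderOf θ₀ ≠ 1 := fun h => h0 (orderOf_eq_one_iff.1 h)
    exact conn_of_common ha hcR hc.pos (Nat.minFac_prime ho1).one_lt
      ((Nat.minFac_dvd _).trans (orderOf_dvd_of_pow_eq_one hoa))
      ((Nat.minFac_dvd _).trans (orderOf_dvd_of_pow_eq_one hoc))

theorem conn_same (hNG : N ≤ commutator G) {r : ℕ} (hr : r.Prime)
    (hdvd : r ∣ ⁅N, N⁆.relIndex N) {a b : ℕ} (ha : a ∈ Cfsg.relCharDegrees N)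
    (hb : b ∈ Cfsg.relCharDegrees N) (hab : r ∣ a ↔ r ∣ b) : Conn N a b := by
  by_cases hra : r ∣ a
  · obtain ⟨θ, hθ, -, hov⟩ := relCharDegrees_iff.1 hb
    exact conn_of_common ha hb hov.pos hr.one_lt hra (hab.1 hra)
  have hrb : ¬ r ∣ b := fun h => hra (hab.2 h)
  rcases degree_cases hNG hr ha hra with h1 | ⟨μ, hμ, hμa, hsμ⟩
  · rcases degree_cases hNG hr hb hrb with h2 | ⟨ν, hν, hνb, hsν⟩
    · obtain ⟨ν, hν⟩ := exists_isRLin (N := N) hr hdvd
      obtain ⟨c, hc⟩ := exists_over (cf_irr ν)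
      exact (h1 ν hν c hc).trans (h2 ν hν c hc).symm
    · exact h1 ν hν b hνb
  · rcases degree_cases hNG hr hb hrb with h2 | ⟨ν, hν, hνb, hsν⟩
    · exact (h2 μ hμ a hμa).symm
    · exact (near_good hr hμ.2 hν.2 ha hμa.pos hνb.pos (hμa.index_dvd (cf_irr μ))
        (hνb.index_dvd (cf_irr ν)) hsμ hsν hra hrb).conn ha hb hνb.pos

theorem exists_linear_near (hNG : N ≤ commutator G) {r : ℕ} (hr : r.Prime)
    (hdvd : r ∣ ⁅N, N⁆.relIndex N) {a : ℕ} (ha : a ∈ Cfsg.relCharDegrees N) (hra : ¬ r ∣ a) :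
    ∃ (ν : N →* ℂˣ) (b : ℕ), IsRLin r ν ∧ Over N (cf ν) b ∧ Conn N a b := by
  rcases degree_cases hNG hr ha hra with h1 | ⟨μ, hμ, hμa, -⟩
  · obtain ⟨ν, hν⟩ := exists_isRLin (N := N) hr hdvd
    obtain ⟨c, hc⟩ := exists_over (cf_irr ν)
    exact ⟨ν, c, hν, hc, h1 ν hν c hc⟩
  · exact ⟨μ, a, hμ, hμa, ⟨ha, ha, SimpleGraph.Reachable.refl _⟩⟩

theorem near_linear (hNG : N ≤ commutator G) {r q : ℕ} (hr : r.Prime) (hq : q.Prime)
    (hrq : r ≠ q) {μ ν : N →* ℂˣ} (hμ : IsRLin r μ) (hν : IsRLin q ν) :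
    ∃ k l, 1 < k ∧ 1 < l ∧
      (∀ (θ₀ : N → ℂ) (f m c : ℕ), Cfsg.IsIrrCharacter N θ₀ → θ₀ 1 = f → ¬ r ∣ f →
        ¬ r ∣ m → Cfsg.detChar θ₀ ^ m = 1 → Over N (θ₀ * cf μ) c → k ∣ c) ∧
      (∀ (θ₀ : N → ℂ) (f m c : ℕ), Cfsg.IsIrrCharacter N θ₀ → θ₀ 1 = f → ¬ q ∣ f →
        ¬ q ∣ m → Cfsg.detChar θ₀ ^ m = 1 → Over N (θ₀ * cf ν) c → l ∣ c) ∧
      ∀ a b : ℕ, 0 < b → k ∣ a → l ∣ b → Near N a b := by
  obtain ⟨k, hk, hkc⟩ := key_factor hNG hr hμ
  obtain ⟨l, hl, hlc⟩ := key_factor hNG hq hν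
  refine ⟨k, l, hk, hl, hkc, hlc, fun a b hb0 hka hlb => ?_⟩
  obtain ⟨c, hc⟩ := exists_over (irr_mul_cf (cf_irr ν) μ)
  have h1 : k ∣ c := hkc (cf ν) 1 (rOrd N q) c (cf_irr ν) (by rw [cf_apply_one, Nat.cast_one])
    hr.not_dvd_one (fun h => hrq ((Nat.prime_dvd_prime_iff_eq hr hq).1 (hr.dvd_of_dvd_pow h)))
    (by rw [detChar_cf]; exact hν.2) hc
  have h2 : l ∣ c := hlc (cf μ) 1 (rOrd N r) c (cf_irr μ) (by rw [cf_apply_one, Nat.cast_one])
    hq.not_dvd_one (fun h => hrq.symm ((Nat.prime_dvd_prime_iff_eq hq hr).1 (hq.dvd_of_dvd_pow h)))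
    (by rw [detChar_cf]; exact hμ.2) (by rwa [mul_comm])
  have hne : cf ν * cf μ ≠ 1 := by
    intro h
    have h3 := congrArg (· ^ rOrd N q) h
    simp only [mul_pow, hν.2, one_mul, one_pow] at h3
    exact hμ.1 (pow_injective_of_coprime (coprime_rOrd hr fun h =>
      hrq ((Nat.prime_dvd_prime_iff_eq hr hq).1 (hr.dvd_of_dvd_pow h))) hμ.2 (one_pow _)
      (h3.trans (one_pow _).symm))
  have hcR := hc.mem_relCharDegrees (irr_mul_cf (cf_irr ν) μ) hne
  exact near_of_two hcR hc.pos hb0 hk hka h1 hl hlb h2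

theorem conn_linear (hNG : N ≤ commutator G) {r q : ℕ} (hr : r.Prime) (hq : q.Prime)
    (hrq : r ≠ q) {μ ν : N →* ℂˣ} (hμ : IsRLin r μ) (hν : IsRLin q ν) {a b : ℕ}
    (ha : Over N (cf μ) a) (hb : Over N (cf ν) b) : Conn N a b := by
  obtain ⟨k, l, -, -, hk, hl, hnear⟩ := near_linear hNG hr hq hrq hμ hν
  refine (hnear a b hb.pos ?_ ?_).conn (ha.mem_relCharDegrees (cf_irr μ) hμ.1)
    (hb.mem_relCharDegrees (cf_irr ν) hν.1) hb.pos
  · exact hk 1 1 1 a isIrrCharacter_one (by simp) hr.not_dvd_one hr.not_dvd_one (by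
      rw [pow_one]; exact detChar_of_degree_one (IsIrrCharacter.isCharacter isIrrCharacter_one)
        (by simp)) (by rwa [one_mul])
  · exact hl 1 1 1 b isIrrCharacter_one (by simp) hq.not_dvd_one hq.not_dvd_one (by
      rw [pow_one]; exact detChar_of_degree_one (IsIrrCharacter.isCharacter isIrrCharacter_one)
        (by simp)) (by rwa [one_mul])

omit [Finite G] hN in
theorem relIndex_ne_one (hlt : ⁅N, N⁆ < N) : ⁅N, N⁆.relIndex N ≠ 1 := fun h =>
  hlt.not_ge (Subgroup.relIndex_eq_one.1 h)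

theorem components_le_two (hlt : ⁅N, N⁆ < N) (hNG : N ≤ commutator G) :
    Nat.card (Cfsg.commonDivisorGraph.induce (Cfsg.relCharDegrees N)).ConnectedComponent ≤ 2 := by
  classical
  obtain ⟨r, hr, hdvd⟩ := Nat.exists_prime_and_dvd (relIndex_ne_one hlt)
  let F : (Cfsg.commonDivisorGraph.induce (Cfsg.relCharDegrees N)).ConnectedComponent → Bool :=
    fun C => decide (r ∣ (C.out : ℕ))
  have hF : Function.Injective F := by
    intro C C' h
    simp only [F, decide_eq_decide] at h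
    obtain ⟨_, _, hreach⟩ := conn_same hNG hr hdvd C.out.2 C'.out.2 h
    rw [← Quot.out_eq C, ← Quot.out_eq C']
    exact Quot.sound hreach
  simpa using Nat.card_le_card_of_injective F hF

theorem separation (hlt : ⁅N, N⁆ < N) (hNG : N ≤ commutator G) (a b : ℕ)
    (ha : a ∈ Cfsg.relCharDegrees N) (hb : b ∈ Cfsg.relCharDegrees N)
    (h : ¬ (Cfsg.commonDivisorGraph.induce (Cfsg.relCharDegrees N)).Reachable ⟨a, ha⟩ ⟨b, hb⟩) :
    (Nat.Coprime a (⁅N, N⁆.relIndex N) ∧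
      ∀ r : ℕ, r.Prime → r ∣ ⁅N, N⁆.relIndex N → r ∣ b) ∨
    (Nat.Coprime b (⁅N, N⁆.relIndex N) ∧
      ∀ r : ℕ, r.Prime → r ∣ ⁅N, N⁆.relIndex N → r ∣ a) := by
  have hnc : ¬ Conn N a b := fun ⟨_, _, h'⟩ => h h'
  have hone : ∀ r : ℕ, r.Prime → r ∣ ⁅N, N⁆.relIndex N → ¬ (r ∣ a ↔ r ∣ b) := fun r hr hd hiff =>
    hnc (conn_same hNG hr hd ha hb hiff)
  have hmix : ∀ r q : ℕ, r.Prime → q.Prime → r ∣ ⁅N, N⁆.relIndex N → q ∣ ⁅N, N⁆.relIndex N →
      r ∣ a → q ∣ b → False := by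
    intro r q hr hq hdr hdq hra hqb
    have hrb : ¬ r ∣ b := fun h => hone r hr hdr ⟨fun _ => h, fun _ => hra⟩
    have hqa : ¬ q ∣ a := fun h => hone q hq hdq ⟨fun _ => hqb, fun _ => h⟩
    have hne : r ≠ q := fun e => hrb (e ▸ hqb)
    obtain ⟨μ, x, hμ, hx, hbx⟩ := exists_linear_near hNG hr hdr hb hrb
    obtain ⟨ν, y, hν, hy, hay⟩ := exists_linear_near hNG hq hdq ha hqa
    exact hnc (hay.trans ((conn_linear hNG hr hq hne hμ hν hx hy).symm.trans hbx.symm))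
  obtain ⟨r, hr, hd⟩ := Nat.exists_prime_and_dvd (relIndex_ne_one hlt)
  by_cases hra : r ∣ a
  · refine Or.inr ⟨Nat.coprime_of_dvd fun q hq hqb hqM => hmix r q hr hq hd hqM hra hqb, ?_⟩
    intro q hq hqM
    by_contra hqa
    exact hone q hq hqM ⟨fun h => absurd h hqa, fun h => (hmix r q hr hq hd hqM hra h).elim⟩
  · have hrb : r ∣ b := by
      by_contra hrb
      exact hone r hr hd ⟨fun h => absurd h hra, fun h => absurd h hrb⟩
    refine Or.inl ⟨Nat.coprime_of_dvd fun q hq hqa hqM => hmix q r hq hr hqM hd hqa hrb, ?_⟩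
    intro q hq hqM
    by_contra hqb
    exact hone q hq hqM ⟨fun h => (hmix q r hq hr hqM hd h hrb).elim, fun h => absurd h hqb⟩

end CfsgLib.RelDeg
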